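import Mathlib.AlgebraicGeometry.Normalization
import Mathlib.AlgebraicGeometry.Morphisms.Integral
import Mathlib.AlgebraicGeometry.IdealSheaf.Functorial
import Mathlib.AlgebraicGeometry.Limits

/-! # Extending integral surjective morphisms from retrocompact opens -/

universe u

open CategoryTheory Limits AlgebraicGeometry

namespace GrothLib.IntExt

/-- The normalization of an integral morphism is an isomorphism. -/
theorem isIso_toNormalization {X Y : Scheme.{u}} (f : X ⟶ Y) [IsIntegralHom f] :
    IsIso f.toNormalization := by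
  refine ⟨f.normalizationDesc (𝟙 X) f (Category.id_comp f).symm, ?_, ?_⟩
  · rw [Scheme.Hom.toNormalization_normalizationDesc]
  · refine Scheme.Hom.normalization.hom_ext f _ _ f.fromNormalization ?_ ?_ (Category.id_comp _)
    · rw [← Category.assoc, Scheme.Hom.toNormalization_normalizationDesc, Category.id_comp,
        Category.comp_id]
    · rw [Category.assoc, f.toNormalization_fromNormalization, Scheme.Hom.normalizationDesc_comp]

/-- The relative normalization restricts to an integral morphism over a retrocompact open. -/
theorem isPullback_toNormalization {S V : Scheme.{u}} (U : S.Opens) [QuasiCompact U.ι]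
    (v : V ⟶ (U : Scheme.{u})) [IsIntegralHom v] :
    IsPullback (v ≫ U.ι).toNormalization v (v ≫ U.ι).fromNormalization U.ι := by
  let f := v ≫ U.ι
  have h : IsPullback (𝟙 V) v f U.ι := IsPullback.of_horiz_isIso_mono ⟨by simp [f]⟩
  let e := h.isoPullback
  haveI : IsIntegralHom (pullback.snd f U.ι) := by
    rw [show pullback.snd f U.ι = e.inv ≫ v from (Iso.eq_inv_comp e).mpr h.isoPullback_hom_snd]
    infer_instance
  haveI := isIso_toNormalization (pullback.snd f U.ι)
  let m : V ⟶ pullback f.fromNormalization U.ι :=
    e.hom ≫ (pullback.snd f U.ι).toNormalization ≫ f.normalizationPullback U.ι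
  have h1 : m ≫ pullback.fst _ _ = f.toNormalization := by
    simp only [m, Category.assoc, Scheme.Hom.toNormalization_normalizationPullback_fst]
    rw [← Category.assoc, h.isoPullback_hom_fst, Category.id_comp]
  have h2 : m ≫ pullback.snd _ _ = v := by
    simp only [m, Category.assoc, Scheme.Hom.normalizationPullback_snd,
      Scheme.Hom.toNormalization_fromNormalization, h.isoPullback_hom_snd]
    exact h.isoPullback_hom_snd
  exact IsPullback.of_iso_pullback ⟨by simp [f]⟩ (asIso m) h1 h2

theorem exists_integral_extension {S V : Scheme.{u}} (U : S.Opens) [QuasiCompact U.ι]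
    (v : V ⟶ (U : Scheme.{u})) [IsIntegralHom v] [Surjective v] :
    ∃ (V' : Scheme.{u}) (π : V' ⟶ S) (i : V ⟶ V'),
      Surjective π ∧ IsIntegralHom π ∧ IsPullback i v π U.ι := by
  let f := v ≫ U.ι
  let Z : S.IdealSheafData := .vanishingIdeal ⟨(U : Set S)ᶜ, U.2.isClosed_compl⟩
  have hrange : Set.range Z.subschemeι = (U : Set S)ᶜ := by
    rw [Scheme.IdealSheafData.range_subschemeι, Scheme.IdealSheafData.coe_support_vanishingIdeal]
    rfl
  let π : f.normalization ⨿ Z.subscheme ⟶ S := coprod.desc f.fromNormalization Z.subschemeι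
  have hsq := isPullback_toNormalization U v
  haveI : IsOpenImmersion f.toNormalization :=
    MorphismProperty.of_isPullback hsq.flip (inferInstance : IsOpenImmersion U.ι)
  refine ⟨_, π, f.toNormalization ≫ coprod.inl, ⟨fun s ↦ ?_⟩, inferInstance, ?_⟩
  · by_cases hs : s ∈ U
    · obtain ⟨x, hx⟩ := v.surjective ⟨s, hs⟩
      refine ⟨(f.toNormalization ≫ coprod.inl) x, ?_⟩
      rw [← Scheme.Hom.comp_apply, Category.assoc, coprod.inl_desc,
        f.toNormalization_fromNormalization, Scheme.Hom.comp_apply, hx]
      rfl
    · obtain ⟨z, hz⟩ : s ∈ Set.range Z.subschemeι := by rw [hrange]; exact hs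
      exact ⟨(coprod.inr : Z.subscheme ⟶ _) z, by
        rw [← Scheme.Hom.comp_apply, coprod.inr_desc, hz]⟩
  · refine (IsOpenImmersion.isPullback v (f.toNormalization ≫ coprod.inl) U.ι π ?_ ?_).flip
    · rw [Category.assoc, coprod.inl_desc, f.toNormalization_fromNormalization]
    · ext x
      obtain ⟨(x | x), rfl⟩ := (coprodMk _ _).surjective x
      · simp only [coprodMk_inl, Scheme.Opens.opensRange_ι]
        show π _ ∈ U ↔ _ ∈ Set.range _
        rw [← Scheme.Hom.comp_apply, coprod.inl_desc]
        have : f.fromNormalization x ∈ U ↔ x ∈ Set.range f.toNormalization := by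
          rw [show Set.range f.toNormalization =
              Set.range (hsq.flip.isoPullback.hom ≫ pullback.snd U.ι f.fromNormalization) by
            rw [hsq.flip.isoPullback_hom_snd], Scheme.Hom.comp_base, TopCat.coe_comp, Set.range_comp,
            Set.range_eq_univ.mpr hsq.flip.isoPullback.hom.surjective, Set.image_univ,
            IsOpenImmersion.range_pullbackSnd, Scheme.Opens.opensRange_ι]
          rfl
        rw [this]
        constructor
        · rintro ⟨t, rfl⟩; exact ⟨t, rfl⟩
        · rintro ⟨t, ht⟩
          exact ⟨t, (Scheme.Hom.isOpenEmbedding _).injective ht⟩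
      · simp only [coprodMk_inr, Scheme.Opens.opensRange_ι]
        show π _ ∈ U ↔ _ ∈ Set.range _
        rw [← Scheme.Hom.comp_apply, coprod.inr_desc]
        refine iff_of_false (fun h ↦ (hrange.le ⟨x, rfl⟩) h) ?_
        rintro ⟨t, ht⟩
        exact Set.disjoint_iff_forall_ne.mp (isCompl_range_inl_inr _ _).disjoint ⟨_, rfl⟩ ⟨x, rfl⟩ ht

end GrothLib.IntExt
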